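import Mathlib.RingTheory.Localization.Away.Basic
import Mathlib.RingTheory.Spectrum.Prime.Topology

/-!
# Fibre squares of rings with one surjective map, and their localisations
-/

set_option autoImplicit false
universe u

namespace Groth.Agent.KerEval

/-- `C = A ×_{Ā} B` with `B → Ā` surjective. -/
structure Sq (C A B D : Type u) [CommRing C] [CommRing A] [CommRing B] [CommRing D] where
  f : C →+* A
  g : C →+* B
  q : A →+* D
  p : B →+* D
  surj : Function.Surjective p
  comm : ∀ c, q (f c) = p (g c)
  exist : ∀ a b, q a = p b → ∃ c, f c = a ∧ g c = b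
  ext : ∀ c c', f c = f c' → g c = g c' → c = c'

namespace Sq

variable {C A B D : Type u} [CommRing C] [CommRing A] [CommRing B] [CommRing D] (S : Sq C A B D)

theorem f_surj : Function.Surjective S.f := fun a => by
  obtain ⟨b, hb⟩ := S.surj (S.q a)
  obtain ⟨c, hc, -⟩ := S.exist a b hb.symm
  exact ⟨c, hc⟩

/-- the maps of localisations -/
noncomputable def fLoc (d : C) : Localization.Away d →+* Localization.Away (S.f d) :=
  IsLocalization.Away.map _ _ S.f d

noncomputable def gLoc (d : C) : Localization.Away d →+* Localization.Away (S.g d) :=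
  IsLocalization.Away.map _ _ S.g d

noncomputable def qLoc (d : C) :
    Localization.Away (S.f d) →+* Localization.Away (S.q (S.f d)) :=
  IsLocalization.Away.map _ _ S.q (S.f d)

theorem isUnit_algebraMap_p (d : C) :
    IsUnit (((algebraMap D (Localization.Away (S.q (S.f d)))).comp S.p) (S.g d)) := by
  simp only [RingHom.comp_apply, ← S.comm]
  exact IsLocalization.Away.algebraMap_isUnit _

noncomputable def pLoc (d : C) :
    Localization.Away (S.g d) →+* Localization.Away (S.q (S.f d)) :=
  IsLocalization.Away.lift (S.g d) (S.isUnit_algebraMap_p d)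

@[simp] theorem fLoc_algebraMap (d c : C) :
    S.fLoc d (algebraMap C _ c) = algebraMap A _ (S.f c) := by
  simp [fLoc, IsLocalization.Away.map, IsLocalization.map_eq]

@[simp] theorem gLoc_algebraMap (d c : C) :
    S.gLoc d (algebraMap C _ c) = algebraMap B _ (S.g c) := by
  simp [gLoc, IsLocalization.Away.map, IsLocalization.map_eq]

@[simp] theorem qLoc_algebraMap (d : C) (a : A) :
    S.qLoc d (algebraMap A _ a) = algebraMap D _ (S.q a) := by
  simp [qLoc, IsLocalization.Away.map, IsLocalization.map_eq]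

@[simp] theorem pLoc_algebraMap (d : C) (b : B) :
    S.pLoc d (algebraMap B _ b) = algebraMap D _ (S.p b) := by
  simp [pLoc, IsLocalization.Away.lift_eq]

theorem surj_loc (d : C) : Function.Surjective (S.pLoc d) := by
  intro z
  obtain ⟨n, e, he⟩ := IsLocalization.Away.surj (S.q (S.f d)) z
  obtain ⟨b, rfl⟩ := S.surj e
  obtain ⟨iv, hiv⟩ := IsUnit.exists_right_inv
    ((IsLocalization.Away.algebraMap_isUnit (S := Localization.Away (S.g d)) (S.g d)).pow n)
  refine ⟨algebraMap B _ b * iv, ?_⟩
  have h := congrArg (S.pLoc d) hiv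
  simp only [map_mul, map_pow, pLoc_algebraMap, map_one, ← S.comm] at h
  rw [map_mul, pLoc_algebraMap, ← he, mul_assoc, h, mul_one]

theorem comm_loc (d : C) (z : Localization.Away d) :
    S.qLoc d (S.fLoc d z) = S.pLoc d (S.gLoc d z) := by
  have : (S.qLoc d).comp (S.fLoc d) = (S.pLoc d).comp (S.gLoc d) :=
    IsLocalization.ringHom_ext (Submonoid.powers d) (RingHom.ext fun c => by simp [S.comm])
  exact RingHom.congr_fun this z

theorem ext_loc (d : C) (z z' : Localization.Away d) (h1 : S.fLoc d z = S.fLoc d z')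
    (h2 : S.gLoc d z = S.gLoc d z') : z = z' := by
  suffices ∀ w, S.fLoc d w = 0 → S.gLoc d w = 0 → w = 0 from
    sub_eq_zero.mp (this _ (by rw [map_sub, h1, sub_self]) (by rw [map_sub, h2, sub_self]))
  intro w hf hg
  obtain ⟨n, c, hc⟩ := IsLocalization.Away.surj d w
  have hcf := congrArg (S.fLoc d) hc
  have hcg := congrArg (S.gLoc d) hc
  rw [map_mul, hf, zero_mul, fLoc_algebraMap] at hcf
  rw [map_mul, hg, zero_mul, gLoc_algebraMap] at hcg
  obtain ⟨⟨_, i, rfl⟩, hi⟩ := (IsLocalization.map_eq_zero_iff (Submonoid.powers (S.f d)) _ _).mp hcf.symm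
  obtain ⟨⟨_, j, rfl⟩, hj⟩ := (IsLocalization.map_eq_zero_iff (Submonoid.powers (S.g d)) _ _).mp hcg.symm
  simp only at hi hj
  have h0 : d ^ (i + j) * c = 0 := by
    apply S.ext
    · rw [map_mul, map_pow, map_zero, pow_add, mul_right_comm, hi, zero_mul]
    · rw [map_mul, map_pow, map_zero, pow_add, mul_assoc, hj, mul_zero]
  have hc0 : algebraMap C (Localization.Away d) c = 0 :=
    (IsLocalization.map_eq_zero_iff (Submonoid.powers d) _ _).mpr ⟨⟨_, i + j, rfl⟩, h0⟩
  rw [hc0] at hc
  exact (((IsLocalization.Away.algebraMap_isUnit d).pow n).mul_left_eq_zero).mp hc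

theorem exist_loc (d : C) (x : Localization.Away (S.f d)) (y : Localization.Away (S.g d))
    (h : S.qLoc d x = S.pLoc d y) : ∃ z, S.fLoc d z = x ∧ S.gLoc d z = y := by
  obtain ⟨n, a, ha⟩ := IsLocalization.Away.surj (S.f d) x
  obtain ⟨m, b, hb⟩ := IsLocalization.Away.surj (S.g d) y
  have ha' := congrArg (S.qLoc d) ha
  have hb' := congrArg (S.pLoc d) hb
  simp only [map_mul, map_pow, qLoc_algebraMap, pLoc_algebraMap, ← S.comm] at ha' hb'
  have e : algebraMap D (Localization.Away (S.q (S.f d))) (S.q (a * S.f d ^ m)) =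
      algebraMap D _ (S.p (b * S.g d ^ n)) := by
    rw [map_mul, map_mul, map_mul, map_mul, ← ha', ← hb', h]
    simp only [map_pow, ← S.comm]; ring
  obtain ⟨⟨_, k, rfl⟩, hk⟩ := (IsLocalization.eq_iff_exists (Submonoid.powers (S.q (S.f d))) _).mp e
  simp only at hk
  obtain ⟨c, hca, hcb⟩ := S.exist (S.f d ^ k * (a * S.f d ^ m)) (S.g d ^ k * (b * S.g d ^ n)) (by
    simpa [← S.comm] using hk)
  obtain ⟨iv, hiv⟩ := IsUnit.exists_right_inv
    ((IsLocalization.Away.algebraMap_isUnit (S := Localization.Away d) d).pow (k + m + n))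
  refine ⟨algebraMap C _ c * iv, ?_, ?_⟩
  · have h := congrArg (S.fLoc d) hiv
    simp only [map_mul, map_pow, fLoc_algebraMap, map_one] at h
    rw [map_mul, fLoc_algebraMap, hca]
    simp only [map_mul, map_pow]
    rw [← ha]
    linear_combination x * h
  · have h := congrArg (S.gLoc d) hiv
    simp only [map_mul, map_pow, gLoc_algebraMap, map_one] at h
    rw [map_mul, gLoc_algebraMap, hcb]
    simp only [map_mul, map_pow]
    rw [← hb]
    linear_combination y * h

/-- The localised square. -/
noncomputable def loc (d : C) : Sq (Localization.Away d) (Localization.Away (S.f d))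
    (Localization.Away (S.g d)) (Localization.Away (S.q (S.f d))) where
  f := S.fLoc d
  g := S.gLoc d
  q := S.qLoc d
  p := S.pLoc d
  surj := S.surj_loc d
  comm := S.comm_loc d
  exist := S.exist_loc d
  ext := S.ext_loc d

theorem away_eq_zero {R : Type u} [CommRing R] {a : R} (ha : a = 0) (x : Localization.Away a) :
    x = 0 := by
  subst ha
  have h := IsLocalization.Away.algebraMap_isUnit (S := Localization.Away (0 : R)) (0 : R)
  rw [map_zero] at h
  exact eq_zero_of_zero_eq_one (isUnit_zero_iff.mp h) x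

/-- Where `f d = 0`, the square says `C_d = B_{g d}`. -/
theorem gLoc_bijective (d : C) (hd : S.f d = 0) : Function.Bijective (S.gLoc d) := by
  have h0 : ∀ x : Localization.Away (S.f d), x = 0 := away_eq_zero hd
  constructor
  · exact fun z z' h => S.ext_loc d z z' ((h0 _).trans (h0 _).symm) h
  · intro y
    have h1 : ∀ x : Localization.Away (S.q (S.f d)), x = 0 := away_eq_zero (by rw [hd, map_zero])
    obtain ⟨z, -, hz⟩ := S.exist_loc d 0 y ((h1 _).trans (h1 _).symm)
    exact ⟨z, hz⟩

end Sq

end Groth.Agent.KerEval
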