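import Mathlib.AlgebraicGeometry.AffineScheme
import Mathlib.AlgebraicGeometry.Gluing
import Mathlib.AlgebraicGeometry.Limits
import Groth.Agent.KerEval.Square

/-!
# The spectrum of a fibre product ring along a surjection is a pushout of schemes
-/

set_option autoImplicit false
universe u

open CategoryTheory CategoryTheory.Limits AlgebraicGeometry

namespace Groth.Agent.KerEval

/-- shorthand for `Spec` of a ring map -/
noncomputable abbrev sp {R R' : Type u} [CommRing R] [CommRing R'] (φ : R →+* R') :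
    Spec (CommRingCat.of R') ⟶ Spec (CommRingCat.of R) :=
  Spec.map (CommRingCat.ofHom φ)

lemma sp_comp {R R' R'' : Type u} [CommRing R] [CommRing R'] [CommRing R''] (φ : R →+* R')
    (ψ : R' →+* R'') : sp (ψ.comp φ) = sp ψ ≫ sp φ := by
  rw [sp, sp, sp, ← Spec.map_comp, CommRingCat.ofHom_comp]

lemma sp_base {R R' : Type u} [CommRing R] [CommRing R'] (φ : R →+* R') (x) :
    (sp φ).base x = PrimeSpectrum.comap φ x := rfl

/-- the inclusion of a basic open -/
noncomputable abbrev jAway {R : Type u} [CommRing R] (r : R) :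
    Spec (CommRingCat.of (Localization.Away r)) ⟶ Spec (CommRingCat.of R) :=
  sp (algebraMap R (Localization.Away r))

instance {R : Type u} [CommRing R] (r : R) : IsOpenImmersion (jAway r) :=
  IsOpenImmersion.of_isLocalization r

lemma range_jAway {R : Type u} [CommRing R] (r : R) :
    Set.range (jAway r).base = (PrimeSpectrum.basicOpen r : Set (PrimeSpectrum R)) :=
  PrimeSpectrum.localization_away_comap_range _ r

/-- a cover by basic opens -/
noncomputable def awayCover {R : Type u} [CommRing R] (d : PrimeSpectrum R → R)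
    (hd : ∀ x, d x ∉ x.asIdeal) : (Spec (CommRingCat.of R)).OpenCover where
  I₀ := PrimeSpectrum R
  X x := Spec (CommRingCat.of (Localization.Away (d x)))
  f x := jAway (d x)
  mem₀ := by
    rw [Scheme.presieve₀_mem_precoverage_iff]
    refine ⟨fun x ↦ ⟨x, ?_⟩, inferInstance⟩
    rw [range_jAway]
    exact hd x

variable {C A B D : Type u} [CommRing C] [CommRing A] [CommRing B] [CommRing D]

namespace Sq

variable (S : Sq C A B D)

lemma sp_fLoc (d : C) : sp (S.fLoc d) ≫ jAway d = jAway (S.f d) ≫ sp S.f := by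
  rw [← sp_comp, ← sp_comp]
  congr 1; ext c; exact S.fLoc_algebraMap d c

lemma sp_gLoc (d : C) : sp (S.gLoc d) ≫ jAway d = jAway (S.g d) ≫ sp S.g := by
  rw [← sp_comp, ← sp_comp]
  congr 1; ext c; exact S.gLoc_algebraMap d c

lemma sp_qLoc (d : C) : sp (S.qLoc d) ≫ jAway (S.f d) = jAway (S.q (S.f d)) ≫ sp S.q := by
  rw [← sp_comp, ← sp_comp]
  congr 1; ext c; exact S.qLoc_algebraMap d c

lemma sp_pLoc (d : C) : sp (S.pLoc d) ≫ jAway (S.g d) = jAway (S.q (S.f d)) ≫ sp S.p := by
  rw [← sp_comp, ← sp_comp]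
  congr 1; ext c; exact S.pLoc_algebraMap d c

/-- joint surjectivity -/
lemma exists_point (x : PrimeSpectrum C) :
    (∃ y, PrimeSpectrum.comap S.f y = x) ∨
      ∃ d, S.f d = 0 ∧ d ∉ x.asIdeal ∧ ∃ z, PrimeSpectrum.comap S.g z = x := by
  by_cases h : RingHom.ker S.f ≤ x.asIdeal
  · left
    have : x ∈ Set.range (PrimeSpectrum.comap S.f) := by
      rw [range_comap_of_surjective _ _ S.f_surj]; exact h
    exact this
  · right
    obtain ⟨d, hd, hdx⟩ := SetLike.not_le_iff_exists.mp h
    refine ⟨d, hd, hdx, ?_⟩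
    obtain ⟨w, hw⟩ : x ∈ Set.range (PrimeSpectrum.comap (algebraMap C (Localization.Away d))) := by
      rw [PrimeSpectrum.localization_away_comap_range _ d]; exact hdx
    let e := RingEquiv.ofBijective (S.gLoc d) (S.gLoc_bijective d hd)
    refine ⟨PrimeSpectrum.comap (algebraMap B (Localization.Away (S.g d)))
      (PrimeSpectrum.comap e.symm.toRingHom w), ?_⟩
    rw [← hw, ← PrimeSpectrum.comap_comp_apply, ← PrimeSpectrum.comap_comp_apply]
    congr 1
    ext c
    simp only [RingHom.comp_apply, RingEquiv.toRingHom_eq_coe, RingHom.coe_coe]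
    rw [← S.gLoc_algebraMap d c]
    exact e.symm_apply_apply _

/-- universal map into the fibre product -/
noncomputable def lift {R : Type u} [CommRing R] (φ : R →+* A) (ψ : R →+* B)
    (h : S.q.comp φ = S.p.comp ψ) : R →+* C where
  toFun r := (S.exist (φ r) (ψ r) (RingHom.congr_fun h r)).choose
  map_one' := by
    have := (S.exist (φ 1) (ψ 1) (RingHom.congr_fun h 1)).choose_spec
    exact S.ext _ _ (by rw [this.1, map_one, map_one]) (by rw [this.2, map_one, map_one])
  map_zero' := by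
    have := (S.exist (φ 0) (ψ 0) (RingHom.congr_fun h 0)).choose_spec
    exact S.ext _ _ (by rw [this.1, map_zero, map_zero]) (by rw [this.2, map_zero, map_zero])
  map_add' a b := by
    have h1 := (S.exist (φ a) (ψ a) (RingHom.congr_fun h a)).choose_spec
    have h2 := (S.exist (φ b) (ψ b) (RingHom.congr_fun h b)).choose_spec
    have h3 := (S.exist (φ (a + b)) (ψ (a + b)) (RingHom.congr_fun h _)).choose_spec
    exact S.ext _ _ (by rw [h3.1, map_add, map_add, h1.1, h2.1])
      (by rw [h3.2, map_add, map_add, h1.2, h2.2])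
  map_mul' a b := by
    have h1 := (S.exist (φ a) (ψ a) (RingHom.congr_fun h a)).choose_spec
    have h2 := (S.exist (φ b) (ψ b) (RingHom.congr_fun h b)).choose_spec
    have h3 := (S.exist (φ (a * b)) (ψ (a * b)) (RingHom.congr_fun h _)).choose_spec
    exact S.ext _ _ (by rw [h3.1, map_mul, map_mul, h1.1, h2.1])
      (by rw [h3.2, map_mul, map_mul, h1.2, h2.2])

lemma f_comp_lift {R : Type u} [CommRing R] (φ : R →+* A) (ψ : R →+* B)
    (h : S.q.comp φ = S.p.comp ψ) : S.f.comp (S.lift φ ψ h) = φ :=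
  RingHom.ext fun r => (S.exist (φ r) (ψ r) (RingHom.congr_fun h r)).choose_spec.1

lemma g_comp_lift {R : Type u} [CommRing R] (φ : R →+* A) (ψ : R →+* B)
    (h : S.q.comp φ = S.p.comp ψ) : S.g.comp (S.lift φ ψ h) = ψ :=
  RingHom.ext fun r => (S.exist (φ r) (ψ r) (RingHom.congr_fun h r)).choose_spec.2

/-- factor a map from an affine scheme through an affine chart -/
lemma exists_factor {R : Type u} [CommRing R] {G : Scheme.{u}} {W : G.Opens}
    (hW : IsAffineOpen W) (m : Spec (CommRingCat.of R) ⟶ G)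
    (hm : Set.range m.base ⊆ (W : Set G)) :
    ∃ φ : Γ(G, W) →+* R, Spec.map (CommRingCat.ofHom φ) ≫ hW.fromSpec = m := by
  have hr : Set.range m.base ⊆ Set.range hW.fromSpec.base := by
    rw [hW.range_fromSpec]; exact hm
  obtain ⟨φ, hφ⟩ : ∃ φ, Spec.map φ = IsOpenImmersion.lift hW.fromSpec m hr :=
    ⟨Spec.preimage _, Spec.map_preimage _⟩
  exact ⟨φ.hom, by rw [CommRingCat.ofHom_hom, hφ, IsOpenImmersion.lift_fac]⟩

theorem hom_ext {G : Scheme.{u}} (m₁ m₂ : Spec (CommRingCat.of C) ⟶ G)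
    (hA : sp S.f ≫ m₁ = sp S.f ≫ m₂) (hB : sp S.g ≫ m₁ = sp S.g ≫ m₂) : m₁ = m₂ := by
  have hpt : ∀ x : PrimeSpectrum C, m₁.base x = m₂.base x := by
    intro x
    rcases S.exists_point x with ⟨y, rfl⟩ | ⟨-, -, -, z, rfl⟩
    · exact congrArg (fun m : _ ⟶ G => m.base y) hA
    · exact congrArg (fun m : _ ⟶ G => m.base z) hB
  have hloc : ∀ x : PrimeSpectrum C, ∃ d, d ∉ x.asIdeal ∧ jAway d ≫ m₁ = jAway d ≫ m₂ := by
    intro x
    obtain ⟨W, hW, hxW, -⟩ :=
      exists_isAffineOpen_mem_and_subset (x := m₁.base x) (U := ⊤) trivial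
    obtain ⟨_, ⟨d, rfl⟩, hxd, hd⟩ :=
      PrimeSpectrum.isTopologicalBasis_basic_opens.exists_subset_of_mem_open
        (a := x) (u := m₁.base ⁻¹' (W : Set G)) hxW (W.isOpen.preimage m₁.base.hom.continuous)
    refine ⟨d, hxd, ?_⟩
    obtain ⟨φ₁, hφ₁⟩ := exists_factor hW (jAway d ≫ m₁) (by
      rintro _ ⟨z, rfl⟩
      exact hd ((range_jAway d).subset ⟨z, rfl⟩))
    obtain ⟨φ₂, hφ₂⟩ := exists_factor hW (jAway d ≫ m₂) (by
      rintro _ ⟨z, rfl⟩
      have := hd ((range_jAway d).subset ⟨z, rfl⟩)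
      rw [Set.mem_preimage, hpt] at this
      exact this)
    have e1 : (S.fLoc d).comp φ₁ = (S.fLoc d).comp φ₂ := by
      have : sp ((S.fLoc d).comp φ₁) = sp ((S.fLoc d).comp φ₂) := by
        rw [← cancel_mono hW.fromSpec, sp_comp, sp_comp, Category.assoc, Category.assoc, hφ₁, hφ₂,
          ← Category.assoc, ← Category.assoc, S.sp_fLoc, Category.assoc, Category.assoc, hA]
      exact congrArg CommRingCat.Hom.hom (Spec.map_injective this)
    have e2 : (S.gLoc d).comp φ₁ = (S.gLoc d).comp φ₂ := by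
      have : sp ((S.gLoc d).comp φ₁) = sp ((S.gLoc d).comp φ₂) := by
        rw [← cancel_mono hW.fromSpec, sp_comp, sp_comp, Category.assoc, Category.assoc, hφ₁, hφ₂,
          ← Category.assoc, ← Category.assoc, S.sp_gLoc, Category.assoc, Category.assoc, hB]
      exact congrArg CommRingCat.Hom.hom (Spec.map_injective this)
    have : φ₁ = φ₂ := RingHom.ext fun r =>
      S.ext_loc d _ _ (RingHom.congr_fun e1 r) (RingHom.congr_fun e2 r)
    rw [← hφ₁, ← hφ₂, this]
  choose d hd hd' using hloc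
  exact (awayCover d hd).hom_ext _ _ hd'

variable {G : Scheme.{u}} (u : Spec (CommRingCat.of A) ⟶ G) (v : Spec (CommRingCat.of B) ⟶ G)

/-- a partial solution on `D(d)` -/
def Fits (d : C) (m : Spec (CommRingCat.of (Localization.Away d)) ⟶ G) : Prop :=
  sp (S.fLoc d) ≫ m = jAway (S.f d) ≫ u ∧ sp (S.gLoc d) ≫ m = jAway (S.g d) ≫ v

lemma exists_fits (hcomm : sp S.q ≫ u = sp S.p ≫ v) (x : PrimeSpectrum C) :
    ∃ (d : C) (m : Spec (CommRingCat.of (Localization.Away d)) ⟶ G),
      d ∉ x.asIdeal ∧ S.Fits u v d m := by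
  rcases S.exists_point x with ⟨y, rfl⟩ | ⟨d, hd, hdx, -⟩
  · obtain ⟨W, hW, hyW, -⟩ :=
      exists_isAffineOpen_mem_and_subset (x := u.base y) (U := ⊤) trivial
    obtain ⟨_, ⟨a, rfl⟩, hya, ha⟩ :=
      PrimeSpectrum.isTopologicalBasis_basic_opens.exists_subset_of_mem_open
        (a := y) (u := u.base ⁻¹' (W : Set G)) hyW (W.isOpen.preimage u.base.hom.continuous)
    obtain ⟨K, hK⟩ := (PrimeSpectrum.isClosed_iff_zeroLocus_ideal
      (v.base ⁻¹' (W : Set G))ᶜ).mp (W.isOpen.preimage v.base.hom.continuous).isClosed_compl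
    have hrad : S.q a ∈ (K.map S.p).radical := by
      rw [Ideal.radical_eq_sInf, Ideal.mem_sInf]
      rintro J ⟨hJ, hJp⟩
      by_contra hc
      have h1 : (PrimeSpectrum.comap S.q ⟨J, hJp⟩) ∈ u.base ⁻¹' (W : Set G) := ha hc
      have h2 : PrimeSpectrum.comap S.p ⟨J, hJp⟩ ∈ (v.base ⁻¹' (W : Set G))ᶜ :=
        (Set.ext_iff.mp hK _).mpr fun k hk => hJ (Ideal.mem_map_of_mem _ hk)
      have := congrArg (fun m : _ ⟶ G => m.base (⟨J, hJp⟩ : PrimeSpectrum D)) hcomm
      apply h2
      change v.base (PrimeSpectrum.comap S.p ⟨J, hJp⟩) ∈ W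
      rw [← show u.base (PrimeSpectrum.comap S.q ⟨J, hJp⟩) =
        v.base (PrimeSpectrum.comap S.p ⟨J, hJp⟩) from this]
      exact h1
    obtain ⟨n, hn⟩ := hrad
    have hn' : S.q (a ^ (n + 1)) ∈ K.map S.p := by
      rw [map_pow, pow_succ]; exact Ideal.mul_mem_right _ _ hn
    obtain ⟨k, hk, hka⟩ := (Ideal.mem_map_iff_of_surjective _ S.surj).mp hn'
    obtain ⟨d, hda, hdk⟩ := S.exist _ k hka.symm
    obtain ⟨φA, hφA⟩ := exists_factor hW (jAway (S.f d) ≫ u) (by
      have hsub : (PrimeSpectrum.basicOpen (S.f d) : Set (PrimeSpectrum A)) ⊆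
          u.base ⁻¹' (W : Set G) := by
        rw [hda, PrimeSpectrum.basicOpen_pow _ _ n.succ_pos]; exact ha
      rintro _ ⟨z, rfl⟩
      exact hsub ((range_jAway _).subset ⟨z, rfl⟩))
    obtain ⟨φB, hφB⟩ := exists_factor hW (jAway (S.g d) ≫ v) (by
      have hsub : ∀ w : PrimeSpectrum B, S.g d ∉ w.asIdeal → v.base w ∈ W := by
        intro w hw
        by_contra hc
        exact hw (by rw [hdk]; exact (Set.ext_iff.mp hK w).mp hc hk)
      rintro _ ⟨z, rfl⟩
      exact hsub _ ((range_jAway _).subset ⟨z, rfl⟩))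
    have hcompat : (S.loc d).q.comp φA = (S.loc d).p.comp φB := by
      have : sp ((S.qLoc d).comp φA) = sp ((S.pLoc d).comp φB) := by
        rw [← cancel_mono hW.fromSpec, sp_comp, sp_comp, Category.assoc, Category.assoc, hφA, hφB,
          ← Category.assoc, ← Category.assoc, S.sp_qLoc, S.sp_pLoc, Category.assoc, Category.assoc,
          hcomm]
      exact congrArg CommRingCat.Hom.hom (Spec.map_injective this)
    refine ⟨d, sp ((S.loc d).lift φA φB hcompat) ≫ hW.fromSpec, ?_, ?_, ?_⟩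
    · intro hd
      rw [PrimeSpectrum.comap_asIdeal, Ideal.mem_comap, hda] at hd
      exact hya (y.2.mem_of_pow_mem _ hd)
    · rw [← Category.assoc, ← sp_comp, show S.fLoc d = (S.loc d).f from rfl,
        (S.loc d).f_comp_lift]
      exact hφA
    · rw [← Category.assoc, ← sp_comp, show S.gLoc d = (S.loc d).g from rfl,
        (S.loc d).g_comp_lift]
      exact hφB
  · let e := RingEquiv.ofBijective (S.gLoc d) (S.gLoc_bijective d hd)
    refine ⟨d, sp e.symm.toRingHom ≫ jAway (S.g d) ≫ v, hdx, ?_, ?_⟩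
    · haveI : Subsingleton (Localization.Away (S.f d)) :=
        ⟨fun a b => (away_eq_zero hd a).trans (away_eq_zero hd b).symm⟩
      haveI : IsEmpty (Spec (CommRingCat.of (Localization.Away (S.f d))) : Scheme.{u}) :=
        inferInstanceAs (IsEmpty (PrimeSpectrum (Localization.Away (S.f d))))
      exact isInitialOfIsEmpty.hom_ext _ _
    · rw [← Category.assoc, ← sp_comp,
        show (S.gLoc d).comp e.symm.toRingHom = RingHom.id _ from
          RingHom.ext fun z => e.apply_symm_apply z,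
        sp, CommRingCat.ofHom_id, Spec.map_id, Category.id_comp]

lemma isUnit_of_dvd {R : Type u} [CommRing R] {d e : R} (h : d ∣ e) :
    IsUnit (algebraMap R (Localization.Away e) d) :=
  isUnit_of_dvd_unit (map_dvd _ h) (IsLocalization.Away.algebraMap_isUnit e)

/-- restriction of localisations -/
noncomputable def res {R : Type u} [CommRing R] {d e : R} (h : d ∣ e) :
    Localization.Away d →+* Localization.Away e :=
  IsLocalization.Away.lift d (isUnit_of_dvd h)

lemma res_algebraMap {R : Type u} [CommRing R] {d e : R} (h : d ∣ e) (r : R) :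
    res h (algebraMap R _ r) = algebraMap R _ r :=
  IsLocalization.Away.lift_eq _ _ _

lemma sp_res {R : Type u} [CommRing R] {d e : R} (h : d ∣ e) :
    sp (res h) ≫ jAway d = jAway e := by
  rw [← sp_comp]; congr 1; ext r; exact res_algebraMap h r

lemma Fits.restrict {d : C} {m} (hm : S.Fits u v d m) {e : C} (h : d ∣ e) :
    S.Fits u v e (sp (res h) ≫ m) := by
  have h1 : (S.fLoc e).comp (res h) = (res (map_dvd S.f h)).comp (S.fLoc d) :=
    IsLocalization.ringHom_ext (Submonoid.powers d) (RingHom.ext fun c => by simp [res_algebraMap])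
  have h2 : (S.gLoc e).comp (res h) = (res (map_dvd S.g h)).comp (S.gLoc d) :=
    IsLocalization.ringHom_ext (Submonoid.powers d) (RingHom.ext fun c => by simp [res_algebraMap])
  constructor
  · rw [← Category.assoc, ← sp_comp, h1, sp_comp, Category.assoc, hm.1, ← Category.assoc, sp_res]
  · rw [← Category.assoc, ← sp_comp, h2, sp_comp, Category.assoc, hm.2, ← Category.assoc, sp_res]

/-- **Ferrand**: morphisms out of `Spec (A ×_D B)` exist uniquely. -/
theorem exists_hom (hcomm : sp S.q ≫ u = sp S.p ≫ v) :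
    ∃ m : Spec (CommRingCat.of C) ⟶ G, sp S.f ≫ m = u ∧ sp S.g ≫ m = v := by
  choose d m hd hm using S.exists_fits u v hcomm
  let 𝒰 := awayCover d hd
  have hc : ∀ x y, pullback.fst (𝒰.f x) (𝒰.f y) ≫ m x = pullback.snd _ _ ≫ m y := by
    intro x y
    have hr : Set.range (pullback.fst (𝒰.f x) (𝒰.f y) ≫ jAway (d x)).base ⊆
        Set.range (jAway (d x * d y)).base := by
      rintro _ ⟨z, rfl⟩
      rw [range_jAway, PrimeSpectrum.basicOpen_mul]
      refine ⟨(range_jAway (d x)).subset ⟨(pullback.fst (𝒰.f x) (𝒰.f y)).base z, rfl⟩, ?_⟩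
      rw [show pullback.fst (𝒰.f x) (𝒰.f y) ≫ jAway (d x) =
        pullback.snd (𝒰.f x) (𝒰.f y) ≫ jAway (d y) from pullback.condition]
      exact (range_jAway (d y)).subset ⟨(pullback.snd (𝒰.f x) (𝒰.f y)).base z, rfl⟩
    let l := IsOpenImmersion.lift _ _ hr
    have hl : l ≫ jAway (d x * d y) = pullback.fst (𝒰.f x) (𝒰.f y) ≫ jAway (d x) :=
      IsOpenImmersion.lift_fac _ _ hr
    have hx : pullback.fst (𝒰.f x) (𝒰.f y) = l ≫ sp (res (dvd_mul_right (d x) (d y))) := by
      refine (cancel_mono (jAway (d x))).mp ?_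
      rw [Category.assoc, sp_res]
      exact hl.symm
    have hy : pullback.snd (𝒰.f x) (𝒰.f y) = l ≫ sp (res (dvd_mul_left (d y) (d x))) := by
      refine (cancel_mono (jAway (d y))).mp ?_
      rw [Category.assoc, sp_res]
      exact pullback.condition.symm.trans hl.symm
    have := (S.loc (d x * d y)).hom_ext
      (sp (res (dvd_mul_right (d x) (d y))) ≫ m x) (sp (res (dvd_mul_left (d y) (d x))) ≫ m y)
      (((hm x).restrict S u v _).1.trans ((hm y).restrict S u v _).1.symm)
      (((hm x).restrict S u v _).2.trans ((hm y).restrict S u v _).2.symm)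
    refine ((congrArg (· ≫ m x) hx).trans ?_).trans (congrArg (· ≫ m y) hy).symm
    exact ((Category.assoc _ _ _).trans (congrArg (l ≫ ·) this)).trans (Category.assoc _ _ _).symm
  refine ⟨𝒰.glueMorphisms m hc, ?_, ?_⟩
  · refine (awayCover (fun z => S.f (d (PrimeSpectrum.comap S.f z)))
      (fun z => hd (PrimeSpectrum.comap S.f z))).hom_ext _ _ fun z => ?_
    change jAway (S.f (d (PrimeSpectrum.comap S.f z))) ≫ _ = jAway _ ≫ u
    rw [← Category.assoc, ← S.sp_fLoc, Category.assoc]
    exact (congrArg (sp (S.fLoc _) ≫ ·) (𝒰.ι_glueMorphisms m hc _)).trans (hm _).1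
  · refine (awayCover (fun z => S.g (d (PrimeSpectrum.comap S.g z)))
      (fun z => hd (PrimeSpectrum.comap S.g z))).hom_ext _ _ fun z => ?_
    change jAway (S.g (d (PrimeSpectrum.comap S.g z))) ≫ _ = jAway _ ≫ v
    rw [← Category.assoc, ← S.sp_gLoc, Category.assoc]
    exact (congrArg (sp (S.gLoc _) ≫ ·) (𝒰.ι_glueMorphisms m hc _)).trans (hm _).2

end Sq

end Groth.Agent.KerEval
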