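import Mathlib.AlgebraicGeometry.AffineTransitionLimit
import Mathlib.AlgebraicGeometry.Morphisms.FinitePresentation
import Mathlib.Algebra.Category.Ring.FilteredColimits
import Mathlib.CategoryTheory.Limits.Types.Filtered
import Groth.Agent.KerEval.Ferrand

/-!
# Points of a locally finitely presented scheme: lifting `h(s^N Y)` to `A₀[Y]`
-/

set_option autoImplicit false
universe u

open CategoryTheory CategoryTheory.Limits AlgebraicGeometry Polynomial

namespace Groth.Agent.KerEval

variable {A₀ A₁ : Type u} [CommRing A₀] [CommRing A₁] [Algebra A₀ A₁] (s : A₀)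
  [IsLocalization.Away s A₁]

/-- `Y ↦ c Y` -/
noncomputable def scale {R : Type u} [CommRing R] (c : R) : R[X] →+* R[X] :=
  eval₂RingHom C (C c * X)

lemma scale_C {R : Type u} [CommRing R] (c a : R) : scale c (C a) = C a := by simp [scale]
lemma scale_X {R : Type u} [CommRing R] (c : R) : scale c X = C c * X := by simp [scale]

lemma coeff_scale {R : Type u} [CommRing R] (c : R) (P : R[X]) (i : ℕ) :
    (scale c P).coeff i = c ^ i * P.coeff i := by
  induction P using Polynomial.induction_on' with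
  | add p q hp hq => rw [map_add, coeff_add, coeff_add, hp, hq, mul_add]
  | monomial n a =>
    have : scale c (monomial n a) = monomial n (c ^ n * a) := by
      rw [← C_mul_X_pow_eq_monomial, map_mul, map_pow, scale_C, scale_X, mul_pow, ← C_pow,
        ← mul_assoc, ← C_mul, C_mul_X_pow_eq_monomial, mul_comm]
    rw [this, coeff_monomial, coeff_monomial]
    split_ifs with h
    · subst h; rfl
    · rw [mul_zero]

lemma scale_comp {R : Type u} [CommRing R] (c d : R) : (scale c).comp (scale d) = scale (d * c) := by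
  refine Polynomial.ringHom_ext (fun a => ?_) ?_
  · simp [scale_C]
  · simp only [RingHom.comp_apply, scale_X, map_mul, scale_C]; ring

lemma scale_one {R : Type u} [CommRing R] : scale (1 : R) = RingHom.id _ :=
  Polynomial.ringHom_ext (fun a => by simp [scale_C]) (by simp [scale_X])

lemma eval_scale {R : Type u} [CommRing R] (c : R) (P : R[X]) : (scale c P).eval 0 = P.eval 0 := by
  simp [← coeff_zero_eq_eval_zero, coeff_scale]

variable (A₁)

/-- the ring `A₀ ×_{A₁} A₁[Y]` -/
noncomputable def glueRing : Subring (A₀ × A₁[X]) :=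
  RingHom.eqLocus ((algebraMap A₀ A₁).comp (RingHom.fst A₀ A₁[X]))
    ((evalRingHom (0 : A₁)).comp (RingHom.snd A₀ A₁[X]))

/-- the fibre square -/
noncomputable def glueSq : Sq (glueRing A₁ (A₀ := A₀)) A₀ A₁[X] A₁ where
  f := (RingHom.fst A₀ A₁[X]).comp (glueRing A₁).subtype
  g := (RingHom.snd A₀ A₁[X]).comp (glueRing A₁).subtype
  q := algebraMap A₀ A₁
  p := evalRingHom (0 : A₁)
  surj a := ⟨C a, by simp⟩
  comm c := c.2
  exist a b h := ⟨⟨(a, b), h⟩, rfl, rfl⟩
  ext c c' h1 h2 := Subtype.ext (Prod.ext h1 h2)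

/-- `1 / s` -/
noncomputable def sInv : A₁ := IsLocalization.Away.invSelf s

lemma s_mul_sInv : algebraMap A₀ A₁ s * sInv A₁ s = 1 := IsLocalization.Away.mul_invSelf s

/-- `Y ↦ Y / s^n` -/
noncomputable def stageB (n : ℕ) : A₀[X] →+* A₁[X] :=
  (scale (sInv A₁ s ^ n)).comp (mapRingHom (algebraMap A₀ A₁))

/-- the structure maps `A₀[Y] → A₀ ×_{A₁} A₁[Y]` -/
noncomputable def stage (n : ℕ) : A₀[X] →+* glueRing A₁ (A₀ := A₀) :=
  ((evalRingHom (0 : A₀)).prod (stageB A₁ s n)).codRestrict _ fun P => by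
    show algebraMap A₀ A₁ (P.eval 0) = (stageB A₁ s n P).eval 0
    rw [stageB, RingHom.comp_apply, eval_scale, coe_mapRingHom, eval_zero_map]

lemma stage_fst (n : ℕ) (P : A₀[X]) : (stage A₁ s n P : A₀ × A₁[X]).1 = P.eval 0 := rfl
lemma stage_snd (n : ℕ) (P : A₀[X]) : (stage A₁ s n P : A₀ × A₁[X]).2 = stageB A₁ s n P := rfl

lemma map_comp_scale (c : A₀) : (mapRingHom (algebraMap A₀ A₁)).comp (scale c) =
    (scale (algebraMap A₀ A₁ c)).comp (mapRingHom (algebraMap A₀ A₁)) :=
  Polynomial.ringHom_ext (fun a => by simp [scale_C]) (by simp [scale_X])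

lemma stage_scale (n k : ℕ) :
    (stage A₁ s (n + k)).comp (scale (s ^ k)) = stage A₁ s n := by
  refine RingHom.ext fun P => Subtype.ext (Prod.ext ?_ ?_)
  · rw [RingHom.comp_apply, stage_fst, stage_fst, eval_scale]
  · rw [RingHom.comp_apply, stage_snd, stage_snd, stageB, stageB, ← RingHom.comp_apply,
      RingHom.comp_assoc, map_comp_scale, ← RingHom.comp_assoc, scale_comp, map_pow, pow_add,
      mul_comm (sInv A₁ s ^ n), ← mul_assoc, ← mul_pow, s_mul_sInv, one_pow, one_mul]

lemma stage_surj (c : glueRing A₁ (A₀ := A₀)) : ∃ n P, stage A₁ s n P = c := by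
  let Good : (glueRing A₁ (A₀ := A₀)) → Prop := fun c => ∃ n P, stage A₁ s n P = c
  have hadd : ∀ x y, Good x → Good y → Good (x + y) := by
    rintro x y ⟨n, P, rfl⟩ ⟨m, Q, rfl⟩
    refine ⟨n + m, scale (s ^ m) P + scale (s ^ n) Q, ?_⟩
    rw [map_add, ← RingHom.comp_apply, stage_scale, ← RingHom.comp_apply, add_comm n m, stage_scale]
  have hzero : ∀ P : A₁[X], P.eval 0 = 0 → ∀ hP, Good ⟨(0, P), hP⟩ := by
    intro P hP0 hP
    have key : ∀ (S : Finset ℕ), ∀ h, Good ⟨(0, ∑ i ∈ S, monomial i (if i = 0 then 0 else P.coeff i)), h⟩ := by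
      intro S
      induction S using Finset.induction_on with
      | empty =>
        intro h
        exact ⟨0, 0, Subtype.ext (Prod.ext (by simp [stage_fst]) (by simp [stage_snd]))⟩
      | insert i S hiS ih =>
        intro h
        rcases Nat.eq_zero_or_pos i with hi | hi
        · subst hi
          simp only [Finset.sum_insert hiS, if_pos, map_zero, zero_add] at h ⊢
          exact ih h
        · obtain ⟨N, b, hb⟩ := IsLocalization.Away.surj s (P.coeff i)
          have h1 : (0, monomial i (P.coeff i)) ∈ glueRing A₁ (A₀ := A₀) := by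
            show algebraMap A₀ A₁ 0 = (monomial i (P.coeff i)).eval 0
            simp [zero_pow hi.ne']
          have h2 : (0, ∑ j ∈ S, monomial j (if j = 0 then 0 else P.coeff j)) ∈ glueRing A₁ (A₀ := A₀) := by
            show algebraMap A₀ A₁ 0 = Polynomial.eval 0 (∑ j ∈ S, _)
            rw [map_zero, ← coeff_zero_eq_eval_zero, finsetSum_coeff, Finset.sum_eq_zero]
            intro j _
            rw [coeff_monomial]; split_ifs <;> rfl
          have hg : Good ⟨_, h1⟩ := by
            refine ⟨N, monomial i (b * s ^ (N * i - N)), Subtype.ext (Prod.ext ?_ ?_)⟩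
            · simp [stage_fst, zero_pow hi.ne']
            · rw [stage_snd]
              ext j
              rw [stageB, RingHom.comp_apply, coeff_scale, coe_mapRingHom, coeff_map, coeff_monomial,
                coeff_monomial]
              split_ifs with hij
              · subst hij
                rw [map_mul, map_pow, ← hb, ← pow_mul]
                have hle : N ≤ N * i := Nat.le_mul_of_pos_right _ hi
                calc sInv A₁ s ^ (N * i) * (P.coeff i * algebraMap A₀ A₁ s ^ N *
                      algebraMap A₀ A₁ s ^ (N * i - N))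
                    = (algebraMap A₀ A₁ s * sInv A₁ s) ^ (N * i) * P.coeff i := by
                      rw [mul_assoc, ← pow_add, Nat.add_sub_cancel' hle, mul_pow]; ring
                  _ = P.coeff i := by rw [s_mul_sInv, one_pow, one_mul]
              · rw [map_zero, mul_zero]
          convert hadd _ _ hg (ih h2) using 1
          apply Subtype.ext
          simp [Finset.sum_insert hiS, hi.ne']
    have e : ∑ i ∈ P.support, monomial i (if i = 0 then 0 else P.coeff i) = P := by
      conv_rhs => rw [P.as_sum_support]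
      refine Finset.sum_congr rfl fun i hi => ?_
      split_ifs with h
      · exfalso
        rw [h, mem_support_iff, coeff_zero_eq_eval_zero] at hi
        exact hi hP0
      · rfl
    have := key P.support (by rw [e]; exact hP)
    simpa only [e] using this
  obtain ⟨⟨a, P⟩, hc⟩ := c
  have hc' : algebraMap A₀ A₁ a = P.eval 0 := hc
  have h1 : (0, P - C (algebraMap A₀ A₁ a)) ∈ glueRing A₁ (A₀ := A₀) := by
    show algebraMap A₀ A₁ 0 = (P - C (algebraMap A₀ A₁ a)).eval 0
    simp [hc']
  have := hadd _ _ ⟨0, C a, rfl⟩ (hzero _ (by simp [hc']) h1)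
  refine (congrArg Good ?_).mp this
  apply Subtype.ext
  refine Prod.ext (by simp [stage_fst]) ?_
  simp [stage_snd, stageB, scale_C]

lemma stage_ker (n : ℕ) (P : A₀[X]) (hP : stage A₁ s n P = 0) :
    ∃ k, scale (s ^ k) P = 0 := by
  have h0 : P.coeff 0 = 0 := by
    rw [coeff_zero_eq_eval_zero, ← stage_fst A₁ s n, hP]; rfl
  have hB : stageB A₁ s n P = 0 := by rw [← stage_snd, hP]; rfl
  have hu : IsUnit (sInv A₁ s) := IsUnit.of_mul_eq_one_right _ (s_mul_sInv A₁ s)
  have : ∀ i, ∃ k, s ^ k * P.coeff i = 0 := by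
    intro i
    have hi := congrArg (fun Q : A₁[X] => Q.coeff i) hB
    simp only [stageB, RingHom.comp_apply, coeff_scale, coe_mapRingHom, coeff_map, coeff_zero,
      ((hu.pow n).pow i).mul_right_eq_zero] at hi
    obtain ⟨⟨_, k, rfl⟩, hk⟩ := (IsLocalization.map_eq_zero_iff (Submonoid.powers s) _ _).mp hi
    exact ⟨k, hk⟩
  choose k hk using this
  refine ⟨P.support.sup k, Polynomial.ext fun i => ?_⟩
  rw [coeff_scale, coeff_zero]
  by_cases hi : i ∈ P.support
  · rcases Nat.eq_zero_or_pos i with h | h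
    · subst h; rw [h0, mul_zero]
    · obtain ⟨e, he⟩ := Nat.exists_eq_add_of_le
        ((Finset.le_sup (f := k) hi).trans (Nat.le_mul_of_pos_right _ h))
      rw [← pow_mul, he, pow_add, mul_comm (s ^ k i), mul_assoc, hk, mul_zero]
  · rw [notMem_support_iff.mp hi, mul_zero]

/-- the directed system `A₀[Y] → A₀[Y] → ⋯`, `Y ↦ s Y` -/
noncomputable def scaleSys : ULift.{u} ℕ ⥤ CommRingCat.{u} where
  obj _ := CommRingCat.of A₀[X]
  map {i j} _ := CommRingCat.ofHom (scale (s ^ (j.down - i.down)))
  map_id i := by rw [Nat.sub_self, pow_zero, scale_one]; rfl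
  map_comp {i j k} f g := by
    rw [← CommRingCat.ofHom_comp, scale_comp, ← pow_add]
    have h1 : i ≤ j := leOfHom f
    have h2 : j ≤ k := leOfHom g
    replace h1 : i.down ≤ j.down := h1
    replace h2 : j.down ≤ k.down := h2
    rw [show j.down - i.down + (k.down - j.down) = k.down - i.down by omega]

noncomputable def scaleCocone : Cocone (scaleSys (A₀ := A₀) s) where
  pt := CommRingCat.of (glueRing A₁ (A₀ := A₀))
  ι :=
    { app := fun i => CommRingCat.ofHom (stage A₁ s i.down)
      naturality := fun i j f => by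
        have h : i ≤ j := leOfHom f
        replace h : i.down ≤ j.down := h
        refine Eq.trans ?_ (Category.comp_id _).symm
        show CommRingCat.ofHom (scale (s ^ (j.down - i.down))) ≫ CommRingCat.ofHom (stage A₁ s j.down) =
          CommRingCat.ofHom (stage A₁ s i.down)
        rw [← CommRingCat.ofHom_comp]
        obtain ⟨k, hk⟩ := Nat.exists_eq_add_of_le h
        rw [hk, Nat.add_sub_cancel_left, stage_scale] }

noncomputable def isColimitScaleCocone : IsColimit (scaleCocone A₁ (A₀ := A₀) s) := by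
  haveI : ReflectsColimit (scaleSys (A₀ := A₀) s) (forget CommRingCat.{u}) :=
    reflectsColimit_of_reflectsIsomorphisms _ _
  refine isColimitOfReflects (forget CommRingCat.{u}) (Types.FilteredColimit.isColimitOf' _ _ ?_ ?_)
  · intro x
    obtain ⟨n, P, hP⟩ := stage_surj A₁ s x
    exact ⟨⟨n⟩, P, hP.symm⟩
  · intro i (x : A₀[X]) (y : A₀[X]) (h : stage A₁ s i.down x = stage A₁ s i.down y)
    obtain ⟨k, hk⟩ := stage_ker A₁ s i.down (x - y) (by rw [map_sub, h, sub_self])
    refine ⟨⟨i.down + k⟩, homOfLE (Nat.le_add_right _ _), ?_⟩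
    show scale (s ^ (i.down + k - i.down)) x = scale (s ^ (i.down + k - i.down)) y
    rw [Nat.add_sub_cancel_left]
    rwa [map_sub, sub_eq_zero] at hk

variable {R : Type u} [CommRing R] [Algebra R A₀] [Algebra R A₁] [IsScalarTower R A₀ A₁]

/-- The lifting lemma. -/
theorem exists_lift_scale {G : Scheme.{u}} (π : G ⟶ Spec (CommRingCat.of R))
    [LocallyOfFinitePresentation π] (h : Spec (CommRingCat.of A₁[X]) ⟶ G)
    (hh : h ≫ π = sp (algebraMap R A₁[X]))
    (e : Spec (CommRingCat.of A₀) ⟶ G) (he : e ≫ π = sp (algebraMap R A₀))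
    (hcomm : sp (algebraMap A₀ A₁) ≫ e = sp (evalRingHom (0 : A₁)) ≫ h) :
    ∃ (N : ℕ) (h₀ : Spec (CommRingCat.of A₀[X]) ⟶ G), h₀ ≫ π = sp (algebraMap R A₀[X]) ∧
      sp (evalRingHom (0 : A₀)) ≫ h₀ = e ∧
      sp (mapRingHom (algebraMap A₀ A₁)) ≫ h₀ = sp (scale (algebraMap A₀ A₁ s ^ N)) ≫ h := by
  obtain ⟨u, hu1, hu2⟩ := (glueSq A₁ (A₀ := A₀)).exists_hom e h hcomm
  let c : Cone ((scaleSys (A₀ := A₀) s).op ⋙ Scheme.Spec) :=
    Scheme.Spec.mapCone (scaleCocone A₁ s).op
  have hc : IsLimit c := isLimitOfPreserves Scheme.Spec (isColimitScaleCocone A₁ s).op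
  have htr : ∀ t : A₀, (scale t).comp (algebraMap R A₀[X]) = algebraMap R A₀[X] := fun t =>
    RingHom.ext fun r => by
      rw [RingHom.comp_apply, Polynomial.algebraMap_apply, scale_C]
  let t : (scaleSys (A₀ := A₀) s).op ⋙ Scheme.Spec ⟶
      (Functor.const (ULift.{u} ℕ)ᵒᵖ).obj (Spec (CommRingCat.of R)) :=
    { app := fun _ => sp (algebraMap R A₀[X])
      naturality := fun i j f => by
        refine Eq.trans ?_ (Category.comp_id _).symm
        show sp (scale _) ≫ sp (algebraMap R A₀[X]) = sp (algebraMap R A₀[X])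
        rw [← sp_comp, htr] }
  haveI : ∀ i, CompactSpace (((scaleSys (A₀ := A₀) s).op ⋙ Scheme.Spec).obj i) := fun i =>
    inferInstanceAs (CompactSpace (Spec (CommRingCat.of A₀[X]) : Scheme.{u}))
  haveI : ∀ i, QuasiSeparatedSpace (((scaleSys (A₀ := A₀) s).op ⋙ Scheme.Spec).obj i) := fun i =>
    inferInstanceAs (QuasiSeparatedSpace (Spec (CommRingCat.of A₀[X]) : Scheme.{u}))
  haveI : ∀ {i j} (f : i ⟶ j), IsAffineHom (((scaleSys (A₀ := A₀) s).op ⋙ Scheme.Spec).map f) :=
    fun {i j} f => inferInstanceAs (IsAffineHom (Spec.map ((scaleSys (A₀ := A₀) s).map f.unop)))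
  have hu : ∀ i : (ULift.{u} ℕ)ᵒᵖ, sp (stage A₁ s i.unop.down) ≫ sp (algebraMap R A₀[X]) = u ≫ π := by
    intro i
    apply (glueSq A₁ (A₀ := A₀)).hom_ext
    · rw [← Category.assoc (f := sp (glueSq A₁).f) (g := u), hu1, he, ← sp_comp, ← sp_comp]
      congr 1; ext r
      simp [glueSq, stage_fst, Polynomial.algebraMap_apply]
    · rw [← Category.assoc (f := sp (glueSq A₁).g) (g := u), hu2, hh, ← sp_comp, ← sp_comp]
      congr 1; ext r : 1
      simp [glueSq, stage_snd, stageB, Polynomial.algebraMap_apply, scale_C,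
        IsScalarTower.algebraMap_apply R A₀ A₁]
  obtain ⟨i, g, hg, hg'⟩ := Scheme.exists_π_app_comp_eq_of_locallyOfFinitePresentation
    ((scaleSys (A₀ := A₀) s).op ⋙ Scheme.Spec) t π c hc u (by
      ext i : 2
      exact hu i)
  have hg2 : sp (stage A₁ s i.unop.down) ≫ g = u := hg
  refine ⟨i.unop.down, g, hg', ?_, ?_⟩
  · rw [← hu1, ← hg2, ← Category.assoc]
    congr 1
    rw [← sp_comp]
    rfl
  · rw [← hu2, ← hg2, ← Category.assoc, ← Category.assoc]
    congr 1
    rw [← sp_comp, ← sp_comp]
    congr 1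
    refine RingHom.ext fun P => ?_
    show mapRingHom (algebraMap A₀ A₁) P =
      scale (algebraMap A₀ A₁ s ^ i.unop.down) ((stage A₁ s i.unop.down P : A₀ × A₁[X]).2)
    rw [stage_snd, stageB, ← RingHom.comp_apply (scale _), ← RingHom.comp_assoc, scale_comp,
      ← mul_pow, mul_comm (sInv A₁ s), s_mul_sInv, one_pow, scale_one, RingHom.id_comp]

end Groth.Agent.KerEval
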